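import Groth.Prelude.Def_EtCech
import Mathlib.CategoryTheory.EssentiallySmall
import Mathlib.Algebra.Category.Grp.Adjunctions
import Mathlib.Algebra.Category.Grp.Abelian
import Mathlib.Algebra.Category.Grp.EpiMono
import Mathlib.Algebra.Homology.ShortComplex.Ab
import Mathlib.Algebra.Homology.ShortComplex.Exact
import Mathlib.CategoryTheory.Limits.Shapes.ConcreteCategory
import Mathlib.CategoryTheory.Abelian.FunctorCategory
import Mathlib.CategoryTheory.Preadditive.Injective.Basic

/-!
# Injective presheaves have no Cech cohomology, in arbitrary universes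

The free presheaves on tuples of maps into the members of a family form a complex which is exact in
positive degrees; homs from it into `I` are the Cech cochains of `I`.
-/

set_option autoImplicit false
universe w v u

open CategoryTheory Limits Opposite

noncomputable section

namespace GrothLib.CechInj

variable {C : Type u} [Category.{v} C] {U : C} [HasFiniteProducts (Over U)] {ι : Type w} (Y : ι → Over U)
  (P : Cᵒᵖ ⥤ AddCommGrpCat.{w})

/-- The fibre product of a tuple of members. -/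
abbrev obj {n : ℕ} (a : Fin (n + 1) → ι) : Over U := ∏ᶜ fun k => Y (a k)

/-- Forget the `k`-th factor. -/
abbrev proj {n : ℕ} (a : Fin (n + 2) → ι) (k : Fin (n + 2)) :
    obj Y a ⟶ obj Y (fun l => a (k.succAbove l)) :=
  Pi.lift fun l => Pi.π (fun k => Y (a k)) (k.succAbove l)

/-- The `a`-th coordinate of a cochain. -/
def ev {n : ℕ} (a : Fin (n + 1) → ι) :
    (EtCech.cechComplex Y P).X n ⟶ P.obj (op (obj Y a).left) :=
  Pi.π (fun a : Fin (n + 1) → ι => P.obj (op (obj Y a).left)) a

lemma ev_ext {n : ℕ} {x y : (EtCech.cechComplex Y P).X n}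
    (h : ∀ a : Fin (n + 1) → ι, ev Y P a x = ev Y P a y) : x = y :=
  (Concrete.productEquiv fun a : Fin (n + 1) → ι => P.obj (op (obj Y a).left)).injective
    (funext fun a => (Concrete.productEquiv_apply_apply _ x a).trans
      ((h a).trans (Concrete.productEquiv_apply_apply _ y a).symm))

/-- A cochain from its coordinates. -/
def mk {n : ℕ} (x : ∀ a : Fin (n + 1) → ι, P.obj (op (obj Y a).left)) : (EtCech.cechComplex Y P).X n :=
  (Concrete.productEquiv fun a : Fin (n + 1) → ι => P.obj (op (obj Y a).left)).symm x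

lemma ev_mk {n : ℕ} (x : ∀ a : Fin (n + 1) → ι, P.obj (op (obj Y a).left)) (a : Fin (n + 1) → ι) :
    ev Y P a (mk Y P x) = x a :=
  Concrete.productEquiv_symm_apply_π _ x a

lemma ev_d {n : ℕ} (a : Fin (n + 2) → ι) (x : (EtCech.cechComplex Y P).X n) :
    ev Y P a ((EtCech.cechComplex Y P).d n (n + 1) x) =
      ∑ k : Fin (n + 2), (-1 : ℤ) ^ (k : ℕ) •
        P.map (proj Y a k).left.op (ev Y P (fun l => a (k.succAbove l)) x) := by
  have hd : (EtCech.cechComplex Y P).d n (n + 1) = AlgebraicTopology.AlternatingCofaceMapComplex.objD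
      (((FormalCoproduct.cosimplicialObjectFunctor (FormalCoproduct.mk ι Y).cech).obj
        ((Over.forget U).op ⋙ P))) n := by
    exact dif_pos rfl |>.trans (Category.comp_id _)
  have : (EtCech.cechComplex Y P).d n (n + 1) ≫ ev Y P a =
      ∑ k : Fin (n + 2), (-1 : ℤ) ^ (k : ℕ) •
        (ev Y P (fun l => a (k.succAbove l)) ≫ P.map (proj Y a k).left.op) := by
    rw [hd, AlgebraicTopology.AlternatingCofaceMapComplex.objD]
    refine (Preadditive.sum_comp _ _ _).trans (Finset.sum_congr rfl fun k _ => ?_)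
    refine (Preadditive.zsmul_comp _ _ _).trans ?_
    congr 1
    exact Pi.lift_π _ _
  have h := ConcreteCategory.congr_hom this x
  rw [ConcreteCategory.comp_apply] at h
  rw [h]
  let e : (((EtCech.cechComplex Y P).X n) ⟶ P.obj (op (obj Y a).left)) →+ P.obj (op (obj Y a).left) :=
    AddMonoidHom.mk' (fun φ => φ x) (fun _ _ => rfl)
  exact (map_sum e _ _).trans (Finset.sum_congr rfl fun k _ => map_zsmul e _ _)

variable [LocallySmall.{w} C]

/-- Maps from `W` to members of the family. -/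
abbrev Pt (W : C) : Type w := Σ i : ι, Shrink.{w} (W ⟶ (Y i).left)

variable {Y}

/-- The underlying map of a point. -/
def hom {W : C} (t : Pt Y W) : W ⟶ (Y t.1).left := (equivShrink.{w} _).symm t.2

/-- The structure map of a point. -/
def str {W : C} (t : Pt Y W) : W ⟶ U := hom t ≫ (Y t.1).hom

/-- Precomposition. -/
def pmap {W W' : C} (g : W' ⟶ W) (t : Pt Y W) : Pt Y W' :=
  ⟨t.1, equivShrink.{w} _ (g ≫ hom t)⟩

lemma hom_pmap {W W' : C} (g : W' ⟶ W) (t : Pt Y W) : hom (pmap g t) = g ≫ hom t :=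
  Equiv.symm_apply_apply _ _

lemma str_pmap {W W' : C} (g : W' ⟶ W) (t : Pt Y W) : str (pmap g t) = g ≫ str t := by
  exact (congrArg (· ≫ (Y t.1).hom) (hom_pmap g t)).trans (Category.assoc _ _ _)

lemma pmap_id {W : C} (t : Pt Y W) : pmap (𝟙 W) t = t := by
  refine Sigma.ext rfl (heq_of_eq ?_)
  show equivShrink _ (𝟙 W ≫ hom t) = t.2
  rw [Category.id_comp, hom, Equiv.apply_symm_apply]

lemma pmap_pmap {W W' W'' : C} (g : W' ⟶ W) (g' : W'' ⟶ W') (t : Pt Y W) :
    pmap g' (pmap g t) = pmap (g' ≫ g) t := by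
  refine Sigma.ext rfl (heq_of_eq ?_)
  show equivShrink _ (g' ≫ hom (pmap g t)) = equivShrink _ ((g' ≫ g) ≫ hom t)
  exact congrArg _ ((congrArg (g' ≫ ·) (hom_pmap g t)).trans (Category.assoc _ _ _).symm)

variable (Y)

/-- Tuples of points with a common structure map. -/
abbrev Tup (n : ℕ) (W : C) : Type w := {t : Fin (n + 1) → Pt Y W // ∀ k, str (t k) = str (t 0)}

variable {Y}

/-- Omit the `k`-th entry. -/
def face {n : ℕ} {W : C} (k : Fin (n + 2)) (t : Tup Y (n + 1) W) : Tup Y n W :=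
  ⟨fun l => t.1 (k.succAbove l), fun l => (t.2 _).trans (t.2 _).symm⟩

/-- Precomposition of tuples. -/
def tmap {n : ℕ} {W W' : C} (g : W' ⟶ W) (t : Tup Y n W) : Tup Y n W' :=
  ⟨fun l => pmap g (t.1 l), fun l => by rw [str_pmap, str_pmap, t.2 l]⟩

lemma tmap_face {n : ℕ} {W W' : C} (g : W' ⟶ W) (k : Fin (n + 2)) (t : Tup Y (n + 1) W) :
    tmap g (face k t) = face k (tmap g t) := rfl

variable (Y)

/-- The presheaf of tuples. -/
def tupFun (n : ℕ) : Cᵒᵖ ⥤ Type w where
  obj W := Tup Y n W.unop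
  map g := ↾(tmap g.unop)
  map_id W := ConcreteCategory.hom_ext _ _ fun t => Subtype.ext (funext fun l => pmap_id (t.1 l))
  map_comp g g' := ConcreteCategory.hom_ext _ _ fun t =>
    Subtype.ext (funext fun l => (pmap_pmap g.unop g'.unop (t.1 l)).symm)

/-- The free presheaf on tuples. -/
def K (n : ℕ) : Cᵒᵖ ⥤ AddCommGrpCat.{w} := tupFun Y n ⋙ AddCommGrpCat.free

/-- A tuple as a generator. -/
def gen {n : ℕ} {W : Cᵒᵖ} (t : Tup Y n W.unop) : (K Y n).obj W := FreeAbelianGroup.of t

lemma map_gen {n : ℕ} {W W' : Cᵒᵖ} (g : W ⟶ W') (t : Tup Y n W.unop) :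
    (K Y n).map g (gen Y t) = gen Y (tmap g.unop t) :=
  FreeAbelianGroup.map_of_apply _

variable {P} in
/-- Extension of a compatible family from tuples. -/
def ext {n : ℕ} {Q : Cᵒᵖ ⥤ AddCommGrpCat.{w}} (φ : ∀ W : Cᵒᵖ, Tup Y n W.unop → Q.obj W)
    (hφ : ∀ (W W' : Cᵒᵖ) (g : W ⟶ W') (t : Tup Y n W.unop), φ W' (tmap g.unop t) = Q.map g (φ W t)) :
    K Y n ⟶ Q where
  app W := AddCommGrpCat.ofHom (FreeAbelianGroup.lift (φ W))
  naturality W W' g := by
    apply AddCommGrpCat.hom_ext
    refine FreeAbelianGroup.lift_ext _ _ fun t => ?_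
    show FreeAbelianGroup.lift (φ W') ((K Y n).map g (gen Y t)) = Q.map g (FreeAbelianGroup.lift (φ W) (gen Y t))
    erw [map_gen]
    exact (FreeAbelianGroup.lift_apply_of _ _).trans
      ((hφ W W' g t).trans (congrArg (Q.map g) (FreeAbelianGroup.lift_apply_of _ _).symm))

lemma ext_gen {n : ℕ} {Q : Cᵒᵖ ⥤ AddCommGrpCat.{w}} (φ : ∀ W : Cᵒᵖ, Tup Y n W.unop → Q.obj W)
    (hφ : ∀ (W W' : Cᵒᵖ) (g : W ⟶ W') (t : Tup Y n W.unop), φ W' (tmap g.unop t) = Q.map g (φ W t))
    {W : Cᵒᵖ} (t : Tup Y n W.unop) : (ext Y φ hφ).app W (gen Y t) = φ W t :=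
  FreeAbelianGroup.lift_apply_of _ _

/-- The boundary. -/
def bd (n : ℕ) : K Y (n + 1) ⟶ K Y n :=
  ext Y (fun W t => ∑ k : Fin (n + 2), (-1 : ℤ) ^ (k : ℕ) • gen Y (face k t))
    (fun W W' g t => by
      rw [map_sum]
      refine Finset.sum_congr rfl fun k _ => ?_
      rw [map_zsmul, map_gen, tmap_face])

/-- A preferred point over `b`. -/
def sel {W : C} (b : W ⟶ U) (h : Nonempty {p : Pt Y W // str p = b}) : Pt Y W := h.some.1

lemma sel_congr {W : C} {b b' : W ⟶ U} (e : b = b') (h : Nonempty {p : Pt Y W // str p = b})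
    (h' : Nonempty {p : Pt Y W // str p = b'}) : sel Y b h = sel Y b' h' := by
  subst e; rfl

lemma str_sel {W : C} (b : W ⟶ U) (h : Nonempty {p : Pt Y W // str p = b}) : str (sel Y b h) = b :=
  h.some.2

/-- The contracting homotopy on tuples. -/
def cone {n : ℕ} {W : C} (t : Tup Y n W) : Tup Y (n + 1) W :=
  ⟨Fin.cons (sel Y (str (t.1 0)) ⟨⟨t.1 0, rfl⟩⟩) t.1, fun k => by
    cases k using Fin.cases with
    | zero => rfl
    | succ l => rw [Fin.cons_succ, Fin.cons_zero, str_sel, t.2 l]⟩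

lemma face_zero_cone {n : ℕ} {W : C} (t : Tup Y n W) : face 0 (cone Y t) = t :=
  Subtype.ext (funext fun l => by simp [face, cone])

lemma face_succ_cone {n : ℕ} {W : C} (t : Tup Y (n + 1) W) (k : Fin (n + 2)) :
    face k.succ (cone Y t) = cone Y (face k t) := by
  refine Subtype.ext (funext fun l => ?_)
  cases l using Fin.cases with
  | zero =>
    show (cone Y t).1 (k.succ.succAbove 0) = _
    rw [Fin.succ_succAbove_zero]
    simp only [cone, Fin.cons_zero]
    exact sel_congr Y (t.2 _).symm _ _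
  | succ m =>
    show (cone Y t).1 (k.succ.succAbove m.succ) = _
    rw [Fin.succ_succAbove_succ]
    simp only [cone, face, Fin.cons_succ]

/-- The complex of tuples is exact in positive degrees. -/
theorem exists_bd_eq (n : ℕ) {W : Cᵒᵖ} (c : (K Y (n + 1)).obj W) (hc : (bd Y n).app W c = 0) :
    ∃ d : (K Y (n + 2)).obj W, (bd Y (n + 1)).app W d = c := by
  let h₁ : (K Y (n + 1)).obj W →+ (K Y (n + 2)).obj W :=
    FreeAbelianGroup.lift fun t => gen Y (cone Y t)
  let h₀ : (K Y n).obj W →+ (K Y (n + 1)).obj W :=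
    FreeAbelianGroup.lift fun t => gen Y (cone Y t)
  have key : ((bd Y (n + 1)).app W).hom.comp h₁ + h₀.comp ((bd Y n).app W).hom = AddMonoidHom.id _ := by
    refine FreeAbelianGroup.lift_ext _ _ fun t => ?_
    show (bd Y (n + 1)).app W (h₁ (gen Y t)) + h₀ ((bd Y n).app W (gen Y t)) = gen Y t
    rw [show h₁ (gen Y t) = gen Y (cone Y t) from FreeAbelianGroup.lift_apply_of _ _]
    rw [bd, bd]
    erw [ext_gen, ext_gen]
    rw [map_sum, Fin.sum_univ_succ]
    simp only [Fin.val_zero, pow_zero, one_smul, map_zsmul]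
    have e : ∀ k : Fin (n + 2), h₀ (gen Y (face k t)) = gen Y (cone Y (face k t)) :=
      fun k => FreeAbelianGroup.lift_apply_of _ _
    simp only [e, Fin.val_succ, pow_succ, mul_neg, mul_one, neg_smul, Finset.sum_neg_distrib]
    have e0 : face 0 (cone Y t) = t := face_zero_cone Y t
    have e1 : ∀ k : Fin (n + 2), face k.succ (cone Y t) = cone Y (face k t) := fun k => face_succ_cone Y t k
    erw [e0]
    erw [Finset.sum_congr rfl (fun (k : Fin (n + 2)) _ => congrArg (fun z => (-1 : ℤ) ^ (Fin.val k) • gen Y z) (e1 k))]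
    abel
  refine ⟨h₁ c, ?_⟩
  have := DFunLike.congr_fun key c
  change (bd Y (n + 1)).app W (h₁ c) + h₀ ((bd Y n).app W c) = c at this
  rwa [hc, map_zero, add_zero] at this

/-- The map classified by a tuple. -/
def lift {n : ℕ} {W : C} (t : Tup Y n W) : W ⟶ (obj Y fun k => (t.1 k).1).left :=
  (Pi.lift (f := fun k => Y (t.1 k).1) (fun k =>
    (Over.homMk (hom (t.1 k)) (t.2 k) : Over.mk (str (t.1 0)) ⟶ Y (t.1 k).1))).left

lemma lift_π {n : ℕ} {W : C} (t : Tup Y n W) (k : Fin (n + 1)) :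
    lift Y t ≫ (Pi.π (fun k => Y (t.1 k).1) k).left = hom (t.1 k) := by
  rw [lift, ← Over.comp_left, Pi.lift_π]
  rfl

lemma obj_hom_ext {n : ℕ} {a : Fin (n + 1) → ι} {W : C} (g g' : W ⟶ (obj Y a).left)
    (h : ∀ k, g ≫ (Pi.π (fun k => Y (a k)) k).left = g' ≫ (Pi.π (fun k => Y (a k)) k).left) : g = g' := by
  have hb : g' ≫ (obj Y a).hom = g ≫ (obj Y a).hom := by
    rw [← Over.w (Pi.π (fun k => Y (a k)) 0), ← Category.assoc, ← h 0, Category.assoc]
  let G : Over.mk (g ≫ (obj Y a).hom) ⟶ obj Y a := Over.homMk g rfl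
  let G' : Over.mk (g ≫ (obj Y a).hom) ⟶ obj Y a := Over.homMk g' hb
  have : G = G' := Pi.hom_ext _ _ fun k => Over.OverMorphism.ext (by
    rw [Over.comp_left, Over.comp_left]
    exact h k)
  exact congrArg CommaMorphism.left this

lemma lift_tmap {n : ℕ} {W W' : C} (g : W' ⟶ W) (t : Tup Y n W) :
    lift Y (tmap g t) = g ≫ lift Y t := by
  refine obj_hom_ext Y _ _ fun k => ?_
  refine Eq.trans ?_ (Category.assoc g (lift Y t) _).symm
  refine Eq.trans ?_ (congrArg (g ≫ ·) (lift_π Y t k).symm)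
  exact (lift_π Y (tmap g t) k).trans (hom_pmap g (t.1 k))

lemma lift_face {n : ℕ} {W : C} (t : Tup Y (n + 1) W) (k : Fin (n + 2)) :
    lift Y t ≫ (proj Y (fun l => (t.1 l).1) k).left = lift Y (face k t) := by
  refine obj_hom_ext Y _ _ fun l => ?_
  rw [Category.assoc, ← Over.comp_left, Pi.lift_π]
  exact (lift_π Y t (k.succAbove l)).trans (lift_π Y (face k t) l).symm

/-- The tautological tuple. -/
def canon {n : ℕ} (a : Fin (n + 1) → ι) : Tup Y n (obj Y a).left :=
  ⟨fun k => ⟨a k, equivShrink.{w} _ (Pi.π (fun k => Y (a k)) k).left⟩, fun k => by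
    have e : ∀ k, str (⟨a k, equivShrink.{w} _ (Pi.π (fun k => Y (a k)) k).left⟩ : Pt Y (obj Y a).left) =
        (obj Y a).hom := fun k => by
      rw [str, hom, Equiv.symm_apply_apply]
      exact Over.w _
    exact (e k).trans (e 0).symm⟩

lemma lift_canon {n : ℕ} (a : Fin (n + 1) → ι) : lift Y (canon Y a) = 𝟙 _ := by
  refine obj_hom_ext Y _ _ fun k => ?_
  exact (lift_π Y (canon Y a) k).trans ((Equiv.symm_apply_apply _ _).trans (Category.id_comp _).symm)

lemma tmap_canon {n : ℕ} (a : Fin (n + 2) → ι) (k : Fin (n + 2)) :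
    tmap (proj Y a k).left (canon Y (fun l => a (k.succAbove l))) = face k (canon Y a) := by
  refine Subtype.ext (funext fun l => Sigma.ext rfl (heq_of_eq ?_))
  show equivShrink _ _ = equivShrink _ _
  refine congrArg _ ?_
  refine (congrArg ((proj Y a k).left ≫ ·) (Equiv.symm_apply_apply _ _)).trans ?_
  exact (Over.comp_left _ _ _ _ _).symm.trans (congrArg CommaMorphism.left (Pi.lift_π _ l))

variable {Y P}

/-- The hom from the free presheaf classified by a cochain. -/
def classify {n : ℕ} (x : (EtCech.cechComplex Y P).X n) : K Y n ⟶ P :=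
  ext Y (fun W t => P.map (lift Y t).op (ev Y P (fun k => (t.1 k).1) x))
    (fun W W' g t => by
      show P.map (lift Y (tmap g.unop t)).op (ev Y P (fun k => (t.1 k).1) x) = _
      rw [lift_tmap]
      exact ConcreteCategory.congr_hom (P.map_comp (lift Y t).op g) _)

lemma classify_bd {n : ℕ} (x : (EtCech.cechComplex Y P).X n) {W : Cᵒᵖ} (t : Tup Y (n + 1) W.unop) :
    (classify x).app W ((bd Y n).app W (gen Y t)) =
      P.map (lift Y t).op (ev Y P (fun k => (t.1 k).1) ((EtCech.cechComplex Y P).d n (n + 1) x)) := by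
  rw [bd, ext_gen, map_sum, ev_d, map_sum]
  refine Finset.sum_congr rfl fun k _ => ?_
  rw [map_zsmul, map_zsmul, classify, ext_gen]
  refine congrArg _ ?_
  refine Eq.trans ?_ (ConcreteCategory.congr_hom (P.map_comp (proj Y (fun l => (t.1 l).1) k).left.op (lift Y t).op) _)
  exact (congrArg (fun z => P.map z.op (ev Y P (fun l => (t.1 (k.succAbove l)).1) x)) (lift_face Y t k)).symm

/-- Injective presheaves have no Cech cohomology in positive degrees. -/
theorem isZero_cechH [Injective P] (n : ℕ) : IsZero (EtCech.cechH Y P (n + 1)) := by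
  rw [← HomologicalComplex.exactAt_iff_isZero_homology,
    HomologicalComplex.exactAt_iff' _ n (n + 1) (n + 2) (by simp) (by simp),
    ShortComplex.ab_exact_iff]
  intro x hx
  change (EtCech.cechComplex Y P).d (n + 1) (n + 2) x = 0 at hx
  let S : ShortComplex (Cᵒᵖ ⥤ AddCommGrpCat.{w}) :=
    ShortComplex.mk (kernel.ι (bd Y n)) (bd Y n) (kernel.condition _)
  have hS : S.Exact := ShortComplex.exact_of_f_is_kernel _ (kernelIsKernel (bd Y n))
  have hcyc : ∀ (W : Cᵒᵖ) (c : (K Y (n + 2)).obj W),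
      (classify x).app W ((bd Y (n + 1)).app W c) = 0 := by
    intro W
    have : ((classify x).app W).hom.comp ((bd Y (n + 1)).app W).hom = 0 := by
      refine FreeAbelianGroup.lift_ext _ _ fun t => ?_
      show (classify x).app W ((bd Y (n + 1)).app W (gen Y t)) = 0
      refine (classify_bd x t).trans ?_
      rw [hx, map_zero, map_zero]
    exact fun c => DFunLike.congr_fun this c
  have hf : S.f ≫ classify x = 0 := by
    refine NatTrans.ext (funext fun W => AddCommGrpCat.hom_ext (AddMonoidHom.ext fun k => ?_))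
    have hk : (bd Y n).app W ((kernel.ι (bd Y n)).app W k) = 0 :=
      ConcreteCategory.congr_hom (congrArg (fun z => NatTrans.app z W) (kernel.condition (bd Y n))) k
    obtain ⟨d, hd⟩ := exists_bd_eq Y n ((kernel.ι (bd Y n)).app W k) hk
    show (classify x).app W ((kernel.ι (bd Y n)).app W k) = 0
    rw [← hd, hcyc]
  let ψ : K Y n ⟶ P := hS.descToInjective (classify x) hf
  have hψ : bd Y n ≫ ψ = classify x := hS.comp_descToInjective _ _
  refine ⟨mk Y P fun a => ψ.app (op (obj Y a).left) (gen Y (canon Y a)), ?_⟩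
  refine ev_ext Y P fun a => ?_
  show ev Y P a ((EtCech.cechComplex Y P).d n (n + 1) _) = _
  have h := ConcreteCategory.congr_hom (congrArg (fun z => NatTrans.app z (op (obj Y a).left)) hψ)
    (gen Y (canon Y a))
  rw [NatTrans.comp_app, ConcreteCategory.comp_apply, bd] at h
  erw [ext_gen, ext_gen] at h
  erw [map_sum, lift_canon, op_id, P.map_id] at h
  refine Eq.trans ?_ (h.trans rfl)
  rw [ev_d]
  refine Finset.sum_congr rfl fun k _ => ?_
  rw [map_zsmul, ev_mk, ← tmap_canon]
  refine congrArg _ ?_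
  rw [← ConcreteCategory.comp_apply, ← ψ.naturality, ConcreteCategory.comp_apply, map_gen]
  rfl

end GrothLib.CechInj
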